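import Groth.Agent.S0565
import Groth.Agent.Lib.FppfSource.Ring
import Groth.Agent.Lib.SmoothReg17.Basic
import Groth.Agent.Lib.RegSmooth17.Basic
import Mathlib.RingTheory.Smooth.Fiber
import Mathlib.RingTheory.Etale.Descent
import Mathlib.FieldTheory.IsAlgClosed.AlgebraicClosure
import Mathlib.RingTheory.RingHom.Smooth

/-!
# Smoothness descends along faithfully flat finitely presented maps of the source
-/

open TensorProduct

universe u

namespace Groth.Agent.SmoothFppf

/-- Flatness descends along a faithfully flat map of the source. -/
theorem flat_of_faithfullyFlat (A B C : Type u) [CommRing A] [CommRing B] [CommRing C] [Algebra A B]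
    [Algebra B C] [Algebra A C] [IsScalarTower A B C] [Module.FaithfullyFlat B C] [Module.Flat A C] :
    Module.Flat A B := by
  rw [Module.Flat.iff_lTensor_preserves_injective_linearMap]
  intro N N' _ _ _ _ f hf
  have h : Function.Injective (f.lTensor C) := Module.Flat.lTensor_preserves_injective_linearMap f hf
  let g : B ⊗[A] N →ₗ[B] B ⊗[A] N' := f.baseChange B
  suffices Function.Injective g from this
  rw [← Module.FaithfullyFlat.lTensor_injective_iff_injective B C]
  let e := TensorProduct.AlgebraTensorModule.cancelBaseChange A B C C N
  let e' := TensorProduct.AlgebraTensorModule.cancelBaseChange A B C C N'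
  have he : ∀ z, e' (g.lTensor C z) = f.lTensor C (e z) := by
    intro z
    induction z with
    | zero => simp
    | add x y hx hy => simp [hx, hy]
    | tmul c w =>
      induction w with
      | zero => simp
      | add x y hx hy => simp only [tmul_add, map_add, hx, hy]
      | tmul b n => simp [g, e, e']
  intro x y hxy
  apply e.injective
  apply h
  rw [← he, ← he, hxy]

/-- A finite type algebra over an algebraically closed field with regular local rings is smooth. -/
theorem smooth_of_regular (K T : Type u) [Field K] [IsAlgClosed K] [CommRing T] [Algebra K T]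
    [Algebra.FiniteType K T]
    (h : ∀ (q : Ideal T) [q.IsPrime], IsRegularLocalRing (Localization.AtPrime q)) :
    Algebra.Smooth K T := by
  have hfp : Algebra.FinitePresentation K T := Algebra.FinitePresentation.of_finiteType.mp ‹_›
  refine ⟨Algebra.smoothLocus_eq_univ_iff.mp (Set.eq_univ_iff_forall.mpr fun q => ?_), hfp⟩
  haveI := h q.asIdeal
  haveI : Algebra.EssFiniteType T q.asIdeal.ResidueField := inferInstance
  haveI : Algebra.EssFiniteType K q.asIdeal.ResidueField := Algebra.EssFiniteType.comp K T _
  exact RegSmooth17.isSmoothAt_of_isRegularLocalRing K T q.asIdeal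

/-- Over an algebraically closed field, smoothness descends along a faithfully flat map. -/
theorem smooth_of_faithfullyFlat_field (K T U : Type u) [Field K] [IsAlgClosed K] [CommRing T]
    [CommRing U] [Algebra K T] [Algebra T U] [Algebra.FiniteType K T] [Module.FaithfullyFlat T U]
    (f : K →+* U) (hf : f.Smooth) : Algebra.Smooth K T := by
  refine smooth_of_regular K T fun q _ => ?_
  obtain ⟨Q, hQ⟩ := PrimeSpectrum.comap_surjective_of_faithfullyFlat (A := T) (B := U) ⟨q, ‹_›⟩
  haveI : Q.asIdeal.LiesOver q := ⟨(congrArg PrimeSpectrum.asIdeal hQ).symm⟩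
  letI := Localization.AtPrime.algebraOfLiesOver q Q.asIdeal
  haveI : IsRegularLocalRing (Localization.AtPrime Q.asIdeal) :=
    SmoothReg17.isRegularLocalRing_of_smooth f hf Q.asIdeal
  haveI : IsNoetherianRing T := Algebra.FiniteType.isNoetherianRing K T
  haveI : IsNoetherianRing (Localization.AtPrime q) :=
    IsLocalization.isNoetherianRing q.primeCompl _ inferInstance
  haveI : Module.Flat (Localization.AtPrime q) (Localization.AtPrime Q.asIdeal) := inferInstance
  exact Groth.Agent.S0565.result (Localization.AtPrime q) (Localization.AtPrime Q.asIdeal)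

attribute [local instance] Algebra.TensorProduct.rightAlgebra

/-- The fibre over `A → K`. -/
theorem smooth_baseChange_algClosed (A B C K : Type u) [CommRing A] [CommRing B] [CommRing C]
    [Algebra A B] [Algebra B C] [Algebra A C] [IsScalarTower A B C] [Module.FaithfullyFlat B C]
    [Algebra.Smooth A C] [Algebra.FinitePresentation A B] [Field K] [IsAlgClosed K] [Algebra A K] :
    Algebra.Smooth K (K ⊗[A] B) := by
  let T := B ⊗[A] K
  let U := T ⊗[B] C
  let e : U ≃+* K ⊗[A] C :=
    ((Algebra.TensorProduct.comm B T C).toRingEquiv.trans
      (Algebra.TensorProduct.cancelBaseChange A B B C K).toRingEquiv).trans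
      (Algebra.TensorProduct.comm A C K).toRingEquiv
  let f : K →+* U := e.symm.toRingHom.comp Algebra.TensorProduct.includeLeftRingHom
  have hf : f.Smooth := by
    refine RingHom.Smooth.respectsIso.1 _ e.symm ?_
    exact RingHom.smooth_algebraMap.mpr (inferInstance : Algebra.Smooth K (K ⊗[A] C))
  let e₀ : K ⊗[A] B ≃ₐ[K] T :=
    { Algebra.TensorProduct.comm A K B with commutes' := fun k => rfl }
  haveI : Algebra.FiniteType K T := Algebra.FiniteType.equiv inferInstance e₀
  haveI := smooth_of_faithfullyFlat_field K T U f hf
  exact Algebra.Smooth.of_equiv e₀.symm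

/-- **Smoothness descends along fppf maps of the source.** -/
theorem smooth_of_fppf (A B C : Type u) [CommRing A] [CommRing B] [CommRing C] [Algebra A B]
    [Algebra B C] [Algebra A C] [IsScalarTower A B C] [Module.FaithfullyFlat B C]
    [Algebra.FinitePresentation B C] [Algebra.Smooth A C] : Algebra.Smooth A B := by
  haveI : Algebra.FinitePresentation A B := FppfSource.finitePresentation_of_fppf A B C
  haveI : Module.Flat A B := flat_of_faithfullyFlat A B C
  refine Algebra.Smooth.of_formallySmooth_fiber fun p _ => ?_
  let κ := p.ResidueField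
  let K := AlgebraicClosure κ
  haveI : Algebra.Smooth K (K ⊗[A] B) := smooth_baseChange_algClosed A B C K
  haveI : Algebra.Smooth K (K ⊗[κ] (κ ⊗[A] B)) :=
    Algebra.Smooth.of_equiv (Algebra.TensorProduct.cancelBaseChange A κ K K B).symm
  haveI := Algebra.Smooth.of_smooth_tensorProduct_of_faithfullyFlat (R := κ) (S := κ ⊗[A] B) K
  exact Algebra.Smooth.formallySmooth (R := κ) (A := p.Fiber B)

end Groth.Agent.SmoothFppf
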